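import Cfsg.Agent.H797.AD.Beads

/-!
# Bead sets of `p`-cores (helper2)

* `bd_lam` : the bead set of a strictly increasing tuple;
* `not_dvd_hp` : the hook product of a `p`-core is prime to `p`;
* `exists_core` : the bead set of the vector `v ∈ ℤ ^ p`, of size `(p |v|² + 2 ∑ i v_i) / 2`.
-/

set_option autoImplicit false

namespace Cfsg.Agent.R2.DZ.T1

open Finset Cfsg.Agent.H704 Cfsg.Agent.H614 Cfsg.Agent.H797.AD

theorem bd_lam : ∀ (m : ℕ) (β : Fin m → ℕ), StrictMono β → bd (lam m β) = univ.image β := by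
  intro m
  induction m with
  | zero => intro _ _; simp [lam, bd]
  | succ m ih =>
    intro β hβ
    have h0 : m ≤ β (Fin.last m) := by simpa using strictMono_le hβ (Fin.last m)
    rw [lam, bd, ih _ (strictMono_castSucc hβ), length_lam, Nat.sub_add_cancel h0]
    ext x
    rw [mem_insert, mem_image, mem_image]
    constructor
    · rintro (rfl | ⟨i, -, rfl⟩)
      · exact ⟨_, mem_univ _, rfl⟩
      · exact ⟨_, mem_univ _, rfl⟩
    · rintro ⟨i, -, rfl⟩
      rcases Fin.eq_castSucc_or_eq_last i with ⟨k, rfl⟩ | rfl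
      · exact Or.inr ⟨k, mem_univ _, rfl⟩
      · exact Or.inl rfl

theorem hookProd_lam {m : ℕ} {β : Fin m → ℕ} (hβ : StrictMono β) : hookProd (lam m β) = hp (univ.image β) := by
  rw [hookProd_eq_hp (dec_lam m β hβ), bd_lam m β hβ]

theorem not_dvd_hp {p : ℕ} (hpp : p.Prime) {X : Finset ℕ} (hX : ∀ x ∈ X, p ≤ x → x - p ∈ X) : ¬ p ∣ hp X := by
  intro h
  rw [hp, hpp.prime.dvd_finsetProd_iff] at h
  obtain ⟨x, hx, h⟩ := h
  rw [hpp.prime.dvd_finsetProd_iff] at h
  obtain ⟨y, hy, k, hk⟩ := h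
  rw [mem_filter, mem_range] at hy
  have hall : ∀ j, j ≤ k → x - p * j ∈ X := by
    intro j
    induction j with
    | zero => intro _; simpa using hx
    | succ j ih =>
      intro hj
      have h1 := hX _ (ih (by omega))
      have h2 : p * (j + 1) ≤ p * k := Nat.mul_le_mul_left _ hj
      rw [Nat.mul_add, Nat.mul_one] at h2
      have h3 := h1 (by omega)
      rwa [Nat.sub_sub, ← Nat.mul_succ] at h3
  have h4 := hall k le_rfl
  rw [← hk] at h4
  exact hy.2 (by rwa [Nat.sub_sub_self hy.1.le] at h4)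

theorem gauss (a : ℕ) : 2 * ∑ t ∈ range a, (t : ℤ) = a * (a - 1) := by
  induction a with
  | zero => simp
  | succ a ih => rw [sum_range_succ, mul_add, ih]; push_cast; ring

theorem exists_core {p : ℕ} (hp0 : 0 < p) {n : ℕ} (v : ℕ → ℤ) (hs : ∑ i ∈ range p, v i = 0)
    (hn : (p : ℤ) * ∑ i ∈ range p, v i ^ 2 + 2 * ∑ i ∈ range p, (i : ℤ) * v i = 2 * n) :
    ∃ X : Finset ℕ, (∀ x ∈ X, p ≤ x → x - p ∈ X) ∧ ∑ x ∈ X, x = n + ∑ i ∈ range X.card, i := by
  classical
  obtain ⟨K, hK⟩ : ∃ K : ℕ, ∀ i ∈ range p, 0 ≤ v i + K := by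
    refine ⟨∑ i ∈ range p, (v i).natAbs, fun i hi => ?_⟩
    have h1 : (v i).natAbs ≤ ∑ i ∈ range p, (v i).natAbs := single_le_sum (f := fun i => (v i).natAbs)
      (fun _ _ => Nat.zero_le _) hi
    omega
  set a : ℕ → ℕ := fun i => (v i + K).toNat with ha
  have ha' : ∀ i ∈ range p, (a i : ℤ) = v i + K := fun i hi => Int.toNat_of_nonneg (hK i hi)
  set S : Finset (Σ _ : ℕ, ℕ) := (range p).sigma fun r => range (a r) with hS
  have hinj : Set.InjOn (fun x : Σ _ : ℕ, ℕ => x.1 + p * x.2) S := by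
    rintro ⟨r, t⟩ h1 ⟨r', t'⟩ h2 h
    simp only [hS, coe_sigma, Set.mem_sigma_iff, mem_coe, mem_range] at h1 h2 h
    have e1 : r = r' := by
      have := congrArg (· % p) h
      simpa [Nat.add_mul_mod_self_left, Nat.mod_eq_of_lt h1.1, Nat.mod_eq_of_lt h2.1] using this
    subst e1
    have e2 : t = t' := Nat.eq_of_mul_eq_mul_left hp0 (Nat.add_left_cancel h)
    rw [e2]
  set X : Finset ℕ := S.image (fun x => x.1 + p * x.2) with hX
  have hcard : X.card = ∑ r ∈ range p, a r := by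
    rw [hX, card_image_of_injOn hinj, hS, card_sigma]
    simp
  have hcardZ : (X.card : ℤ) = p * K := by
    rw [hcard, Nat.cast_sum, sum_congr rfl ha', sum_add_distrib, hs]
    simp
  refine ⟨X, ?_, ?_⟩
  · intro x hx hpx
    rw [hX, mem_image] at hx ⊢
    obtain ⟨⟨r, t⟩, hrt, rfl⟩ := hx
    simp only [hS, mem_sigma, mem_range] at hrt hpx ⊢
    have ht : 1 ≤ t := by
      by_contra hc
      have : t = 0 := by omega
      rw [this] at hpx
      omega
    obtain ⟨t, rfl⟩ := Nat.exists_eq_add_of_le' ht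
    refine ⟨⟨r, t⟩, ⟨hrt.1, by simp only; omega⟩, ?_⟩
    rw [Nat.mul_succ]
    simp only
    omega
  · have hsum : ∑ x ∈ X, x = ∑ r ∈ range p, ∑ t ∈ range (a r), (r + p * t) := by
      rw [hX, sum_image hinj, hS, sum_sigma]
    have h2 : (2 : ℤ) * ((∑ x ∈ X, x : ℕ) : ℤ) = ∑ r ∈ range p, (2 * (r : ℤ) * (a r : ℤ) + (p : ℤ) * ((a r : ℤ) * ((a r : ℤ) - 1))) := by
      rw [hsum]
      push_cast
      rw [mul_sum]
      refine sum_congr rfl fun r _ => ?_
      rw [sum_add_distrib, ← mul_sum, mul_add]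
      have := gauss (a r)
      rw [sum_const, card_range, nsmul_eq_mul]
      linear_combination (p : ℤ) * this
    have h3 : ∑ r ∈ range p, (2 * (r : ℤ) * (a r : ℤ) + (p : ℤ) * ((a r : ℤ) * ((a r : ℤ) - 1)))
        = 2 * n + (p * K) * (p * K - 1) := by
      have h4 : ∑ r ∈ range p, (2 * (r : ℤ) * (a r : ℤ) + (p : ℤ) * ((a r : ℤ) * ((a r : ℤ) - 1))) =
          ∑ r ∈ range p, ((p : ℤ) * v r ^ 2 + 2 * ((r : ℤ) * v r) + (p : ℤ) * (2 * K - 1) * v r + (K : ℤ) * 2 * (r : ℤ)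
            + (p : ℤ) * ((K : ℤ) * ((K : ℤ) - 1))) := by
        refine sum_congr rfl fun r hr => ?_
        rw [ha' r hr]; ring
      rw [h4]
      simp only [sum_add_distrib, ← mul_sum, sum_const, card_range, nsmul_eq_mul]
      rw [hs]
      linear_combination hn + (K : ℤ) * gauss p
    have h5 := gauss X.card
    have h6 : (2 : ℤ) * ((∑ x ∈ X, x : ℕ) : ℤ) = 2 * ((n + ∑ i ∈ range X.card, i : ℕ) : ℤ) := by
      rw [h2, h3]
      push_cast
      rw [mul_add, h5, hcardZ]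
    have h7 := mul_left_cancel₀ two_ne_zero h6
    exact_mod_cast h7

end Cfsg.Agent.R2.DZ.T1
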