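import Cfsg.Agent.R2.DZ.T1.Vec

/-!
# `p`-cores from vectors with distinct residues (helper2)
-/

set_option autoImplicit false

namespace Cfsg.Agent.R2.DZ.T1

open Finset

theorem hasCore_of_distinct {p h n : ℕ} (hp : p = 2 * h + 1) (y : Fin p → ℤ)
    (hinj : ∀ i j, (p : ℤ) ∣ y i - y j → i = j) (hs : ∑ i, y i = 0)
    (hn : ∑ i, y i ^ 2 = 2 * p * n + ∑ i ∈ range p, ((i : ℤ) - h) ^ 2) : HasCore p n := by
  have hp0 : (0 : ℤ) < p := by omega
  -- residues and quotients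
  have hr0 : ∀ j, 0 ≤ (y j + h) % p := fun j => Int.emod_nonneg _ hp0.ne'
  have hrp : ∀ j, (y j + h) % p < p := fun j => Int.emod_lt_of_pos _ hp0
  set r : Fin p → Fin p := fun j => ⟨((y j + h) % p).toNat, by have := hr0 j; have := hrp j; omega⟩ with hr
  have hrv : ∀ j, ((r j : ℕ) : ℤ) = (y j + h) % p := fun j => Int.toNat_of_nonneg (hr0 j)
  have hri : Function.Injective r := by
    intro i j hij
    apply hinj
    have h1 : (y i + h) % p = (y j + h) % p := by rw [← hrv, ← hrv, hij]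
    have h3 : (p : ℤ) ∣ (y i + h) - (y j + h) := Int.ModEq.dvd (n := (p : ℤ)) (a := y j + h) (b := y i + h) h1.symm
    have h4 : y i - y j = (y i + h) - (y j + h) := by ring
    rw [h4]; exact h3
  let e : Fin p ≃ Fin p := Equiv.ofBijective r (Finite.injective_iff_bijective.1 hri)
  have he : ∀ j, e j = r j := fun _ => rfl
  let q : Fin p → ℤ := fun j => (y j + h) / p
  have hy : ∀ j, y j = p * q j + (r j : ℕ) - h := by
    intro j
    have := Int.emod_add_mul_ediv (y j + h) p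
    rw [hrv]
    show y j = p * ((y j + h) / p) + (y j + h) % p - h
    linarith
  let v : ℕ → ℤ := fun i => if hi : i < p then q (e.symm ⟨i, hi⟩) else 0
  have hv : ∀ i : Fin p, v i = q (e.symm i) := fun i => by
    show (if hi : (i : ℕ) < p then q (e.symm ⟨i, hi⟩) else 0) = _
    rw [dif_pos i.2]
  -- the sums
  have key : ∀ f : ℕ → ℤ → ℤ, ∑ i ∈ range p, f i (v i) = ∑ j, f (r j) (q j) := by
    intro f
    rw [Finset.sum_range, ← Equiv.sum_comp e]
    refine sum_congr rfl fun j _ => ?_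
    rw [hv, Equiv.symm_apply_apply, he]
  have hsr : ∑ j, ((r j : ℕ) : ℤ) = p * h := by
    have h1 : ∑ i ∈ range p, (i : ℤ) = ∑ j, ((r j : ℕ) : ℤ) := key (fun i _ => (i : ℤ))
    rw [← h1]
    have h2 : (∑ i ∈ range p, i) * 2 = p * (p - 1) := Finset.sum_range_id_mul_two p
    have h3 : p - 1 = 2 * h := by omega
    rw [h3] at h2
    have h4 : ∑ i ∈ range p, i = p * h := by
      have : (∑ i ∈ range p, i) * 2 = (p * h) * 2 := by rw [h2]; ring
      exact Nat.eq_of_mul_eq_mul_right (by norm_num) this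
    have h5 := congrArg (Nat.cast : ℕ → ℤ) h4
    push_cast at h5
    exact h5
  have hsq : ∑ j, q j = 0 := by
    have h1 : ∑ j, y j = p * ∑ j, q j + ∑ j, ((r j : ℕ) : ℤ) - p * h := by
      rw [sum_congr rfl fun j _ => hy j, sum_sub_distrib, sum_add_distrib, ← mul_sum]
      simp
    rw [hs, hsr] at h1
    have : (p : ℤ) * ∑ j, q j = 0 := by linarith
    rcases mul_eq_zero.1 this with h | h
    · exact absurd h hp0.ne'
    · exact h
  refine ⟨v, ?_, ?_⟩
  · rw [key (fun _ x => x), hsq]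
  · rw [key (fun _ x => x ^ 2), key (fun i x => (i : ℤ) * x)]
    have h1 : ∑ j, y j ^ 2 = (p : ℤ) ^ 2 * ∑ j, q j ^ 2 + 2 * p * ∑ j, ((r j : ℕ) : ℤ) * q j
        - 2 * p * h * ∑ j, q j + ∑ j, (((r j : ℕ) : ℤ) - h) ^ 2 := by
      rw [mul_sum, mul_sum, mul_sum, ← sum_add_distrib, ← sum_sub_distrib, ← sum_add_distrib]
      refine sum_congr rfl fun j _ => ?_
      rw [hy j]; ring
    have h2 : ∑ j, (((r j : ℕ) : ℤ) - h) ^ 2 = ∑ i ∈ range p, ((i : ℤ) - h) ^ 2 := by
      rw [key (fun i _ => ((i : ℤ) - h) ^ 2)]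
    rw [h2, hsq, hn] at h1
    have h3 : (p : ℤ) * (p * ∑ j, q j ^ 2 + 2 * ∑ j, ((r j : ℕ) : ℤ) * q j) = p * (2 * n) := by linarith
    exact mul_left_cancel₀ hp0.ne' h3

end Cfsg.Agent.R2.DZ.T1
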