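import Cfsg.Agent.R2.DZ.T1.Reduce

/-!
# Sums of three squares (helper2)

* `three_sq_of` : `m` is a sum of three squares if `-b` is a square modulo `b m - 1`;
* `three_sq_two` : the case `m ≡ 2` modulo 4;
* `three_sq_three` : the case `m ≡ 3` modulo 8.
-/

set_option autoImplicit false

namespace Cfsg.Agent.R2.DZ.T1

open scoped NumberTheorySymbols

theorem three_sq_of {m b x : ℤ} (hb : 0 < b) (hm : 1 < b * m) (h : b * m - 1 ∣ x ^ 2 + b) :
    ∃ u v w : ℤ, m = u ^ 2 + v ^ 2 + w ^ 2 := by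
  obtain ⟨a, ha⟩ := h
  have ha0 : 0 < a := by
    by_contra hc
    push Not at hc
    nlinarith [sq_nonneg x]
  obtain ⟨u, v, w, h1⟩ := ter_one _ a (b * m - 1) m 0 1 x rfl ha0 (by nlinarith) (by rw [tdet]; nlinarith) 0 0 1
  refine ⟨u, v, w, ?_⟩
  rw [← h1, ter]; ring

/-- `-b` is a square modulo the prime `q` -/
theorem exists_sq {q : ℕ} [Fact q.Prime] {b : ℤ} (h : jacobiSym (-b) q = 1) : ∃ x : ℤ, (q : ℤ) ∣ x ^ 2 + b := by
  rw [← jacobiSym.legendreSym.to_jacobiSym] at h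
  have hne : ((-b : ℤ) : ZMod q) ≠ 0 := by
    intro h0
    rw [(legendreSym.eq_zero_iff q (-b)).2 h0] at h
    norm_num at h
  obtain ⟨x, hx⟩ := (legendreSym.eq_one_iff q hne).1 h
  obtain ⟨y, rfl⟩ := ZMod.intCast_surjective x
  refine ⟨y, ?_⟩
  rw [← ZMod.intCast_zmod_eq_zero_iff_dvd]
  push_cast at hx ⊢
  rw [pow_two, ← hx]; ring

theorem three_sq_two {m : ℕ} (hm : m % 4 = 2) : ∃ u v w : ℤ, (m : ℤ) = u ^ 2 + v ^ 2 + w ^ 2 := by
  have hcop : (m - 1).Coprime (4 * m) := by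
    apply Nat.Coprime.mul_right
    · have : (m - 1).Coprime (2 ^ 2) := Nat.Coprime.pow_right 2 (Nat.coprime_two_right.2 (Nat.odd_iff.2 (by omega)))
      simpa using this
    · have := Nat.coprime_self_sub_left (m := 1) (n := m) (by omega)
      simpa using this
  obtain ⟨q, hq1, hq, hq2⟩ := Nat.forall_exists_prime_gt_and_modEq (4 * m) (q := 4 * m) (a := m - 1) (by omega) hcop
  -- `q = 4 m v + m - 1`
  obtain ⟨v, hv⟩ : ∃ v : ℕ, q = (m - 1) + (4 * m) * v := by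
    have h1 : q % (4 * m) = (m - 1) := by rw [hq2]; exact Nat.mod_eq_of_lt (by omega)
    exact ⟨q / (4 * m), by rw [← h1]; exact (Nat.mod_add_div q (4 * m)).symm⟩
  have : Fact q.Prime := ⟨hq⟩
  set b : ℕ := 4 * v + 1 with hb
  have hqb : q + 1 = b * m := by
    rw [hv, hb]
    have : 1 ≤ m := by omega
    obtain ⟨k, rfl⟩ := Nat.exists_eq_add_of_le this
    rw [Nat.add_sub_cancel_left]; ring
  have hq4 : q % 4 = 1 := by
    have : q = m - 1 + 4 * (m * v) := by rw [hv]; ring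
    omega
  have hb4 : b % 4 = 1 := by omega
  have hbodd : Odd b := Nat.odd_iff.2 (by omega)
  have hqodd : Odd q := Nat.odd_iff.2 (by omega)
  have hJ : jacobiSym (-(b : ℤ)) q = 1 := by
    rw [jacobiSym.neg _ hqodd, ZMod.χ₄_nat_one_mod_four hq4, one_mul,
      jacobiSym.quadratic_reciprocity_one_mod_four hb4 hqodd]
    have h1 : jacobiSym (q : ℤ) b = jacobiSym (-1) b := by
      apply jacobiSym.mod_left'
      have : (q : ℤ) = -1 + b * m := by
        have : ((q + 1 : ℕ) : ℤ) = ((b * m : ℕ) : ℤ) := by rw [hqb]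
        push_cast at this
        linarith
      rw [this, Int.add_mul_emod_self_left]
    rw [h1, jacobiSym.at_neg_one hbodd, ZMod.χ₄_nat_one_mod_four hb4]
  obtain ⟨x, hx⟩ := exists_sq hJ
  have hqb' : (b : ℤ) * m - 1 = q := by
    have : ((q + 1 : ℕ) : ℤ) = ((b * m : ℕ) : ℤ) := by rw [hqb]
    push_cast at this
    linarith
  have hq0 : (1 : ℤ) < q := by exact_mod_cast hq.one_lt
  exact three_sq_of (b := b) (x := x) (by omega) (by linarith) (by rw [hqb']; exact hx)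

theorem three_sq_three {m : ℕ} (hm : m % 8 = 3) : ∃ u v w : ℤ, (m : ℤ) = u ^ 2 + v ^ 2 + w ^ 2 := by
  obtain ⟨k, rfl⟩ : ∃ k, m = 8 * k + 3 := ⟨m / 8, by omega⟩
  -- `(m - 1) / 2 = 4 k + 1`
  have hcop : (4 * k + 1).Coprime (4 * (8 * k + 3)) := by
    apply Nat.Coprime.mul_right
    · have : (4 * k + 1).Coprime (2 ^ 2) := Nat.Coprime.pow_right 2 (Nat.coprime_two_right.2 (Nat.odd_iff.2 (by omega)))
      simpa using this
    · have h1 : 8 * k + 3 = 1 + 2 * (4 * k + 1) := by ring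
      rw [h1, Nat.coprime_add_mul_right_right]
      exact Nat.coprime_one_right _
  obtain ⟨q, hq1, hq, hq2⟩ := Nat.forall_exists_prime_gt_and_modEq (4 * (8 * k + 3)) (q := 4 * (8 * k + 3))
    (a := 4 * k + 1) (by omega) hcop
  obtain ⟨v, hv⟩ : ∃ v : ℕ, q = (4 * k + 1) + (4 * (8 * k + 3)) * v := by
    have h1 : q % (4 * (8 * k + 3)) = (4 * k + 1) := by rw [hq2]; exact Nat.mod_eq_of_lt (by omega)
    exact ⟨q / (4 * (8 * k + 3)), by rw [← h1]; exact (Nat.mod_add_div q (4 * (8 * k + 3))).symm⟩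
  have : Fact q.Prime := ⟨hq⟩
  set b : ℕ := 8 * v + 1 with hb
  have hqb : 2 * q + 1 = b * (8 * k + 3) := by
    rw [hv, hb]; ring
  have hq4 : q % 4 = 1 := by
    have : q = 1 + 4 * (k + (8 * k + 3) * v) := by rw [hv]; ring
    omega
  have hb4 : b % 4 = 1 := by omega
  have hb8 : b % 8 = 1 := by omega
  have hbodd : Odd b := Nat.odd_iff.2 (by omega)
  have hqodd : Odd q := Nat.odd_iff.2 (by omega)
  have h2q : (2 : ℤ) * q = -1 + b * (8 * k + 3 : ℕ) := by
    have : ((2 * q + 1 : ℕ) : ℤ) = ((b * (8 * k + 3) : ℕ) : ℤ) := by rw [hqb]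
    push_cast at this ⊢
    linarith
  have hJ : jacobiSym (-(b : ℤ)) q = 1 := by
    rw [jacobiSym.neg _ hqodd, ZMod.χ₄_nat_one_mod_four hq4, one_mul,
      jacobiSym.quadratic_reciprocity_one_mod_four hb4 hqodd]
    have h1 : jacobiSym ((2 : ℤ) * q) b = jacobiSym (-1) b := by
      apply jacobiSym.mod_left'
      rw [h2q, Int.add_mul_emod_self_left]
    rw [jacobiSym.mul_left, jacobiSym.at_neg_one hbodd, ZMod.χ₄_nat_one_mod_four hb4, jacobiSym.at_two hbodd] at h1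
    have h3 : ZMod.χ₈ (b : ZMod 8) = 1 := by
      have : (b : ZMod 8) = 1 := by
        have h4 : ((b : ℕ) : ZMod 8) = ((1 : ℕ) : ZMod 8) := (ZMod.natCast_eq_natCast_iff' b 1 8).2 (by omega)
        simpa using h4
      rw [this]; rfl
    rw [h3, one_mul] at h1
    exact h1
  obtain ⟨x, hx⟩ := exists_sq hJ
  -- make `x` odd
  obtain ⟨y, hy, hyodd⟩ : ∃ y : ℤ, (q : ℤ) ∣ y ^ 2 + b ∧ Odd y := by
    rcases Int.even_or_odd x with he | ho
    · refine ⟨x + q, ?_, ?_⟩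
      · have : (x + q) ^ 2 + (b : ℤ) = (x ^ 2 + b) + q * (2 * x + q) := by ring
        rw [this]
        exact dvd_add hx (dvd_mul_right _ _)
      · exact he.add_odd (by exact_mod_cast hqodd)
    · exact ⟨x, hx, ho⟩
  have h2 : (2 : ℤ) ∣ y ^ 2 + b := by
    have h5 : Odd (b : ℤ) := by exact_mod_cast hbodd
    exact even_iff_two_dvd.1 ((hyodd.pow).add_odd h5)
  have hcop2 : IsCoprime (2 : ℤ) q := by
    rw [Int.isCoprime_iff_gcd_eq_one]
    have : Nat.Coprime 2 q := Nat.coprime_two_left.2 hqodd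
    simpa [Int.gcd] using this
  have hdiv : (2 : ℤ) * q ∣ y ^ 2 + b := hcop2.mul_dvd h2 hy
  have hqb' : (b : ℤ) * (8 * k + 3 : ℕ) - 1 = 2 * q := by rw [h2q]; ring
  have hq0 : (1 : ℤ) < q := by exact_mod_cast hq.one_lt
  exact three_sq_of (b := b) (x := y) (by omega) (by linarith) (by rw [hqb']; exact hdiv)

end Cfsg.Agent.R2.DZ.T1
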