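import Cfsg.Agent.R2.DZ.T1.Dist
import Cfsg.Agent.R2.DZ.T1.ThreeSq

/-!
# `5`-cores (helper2)

The lattice `A₄` represents every positive integer (Gauss: `8 N - 5` is a sum of three squares), and the multiplication
by `√5` in the fifth cyclotomic field sends a vector of `A₄` of norm `2 N` with a non-trivial weight modulo 5 to a
vector of norm `10 N` with distinct residues.
-/

set_option autoImplicit false

namespace Cfsg.Agent.R2.DZ.T1

open Finset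

/-- the vectors of `A₄` of norm `2 N`, not constant modulo 5 -/
def NC5 (N : ℕ) : Prop :=
  ∃ a b c d e : ℤ, a + b + c + d + e = 0 ∧ a ^ 2 + b ^ 2 + c ^ 2 + d ^ 2 + e ^ 2 = 2 * N ∧
    ¬ (5 ∣ a - b ∧ 5 ∣ b - c ∧ 5 ∣ c - d ∧ 5 ∣ d - e)

/-- the vectors of `A₄` of norm `10 N`, with distinct residues modulo 5 -/
def Dist5 (N : ℕ) : Prop :=
  ∃ a b c d e : ℤ, a + b + c + d + e = 0 ∧ a ^ 2 + b ^ 2 + c ^ 2 + d ^ 2 + e ^ 2 = 10 * N ∧
    ¬ 5 ∣ a - b ∧ ¬ 5 ∣ a - c ∧ ¬ 5 ∣ a - d ∧ ¬ 5 ∣ a - e ∧ ¬ 5 ∣ b - c ∧ ¬ 5 ∣ b - d ∧ ¬ 5 ∣ b - e ∧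
    ¬ 5 ∣ c - d ∧ ¬ 5 ∣ c - e ∧ ¬ 5 ∣ d - e

theorem dist5_of {N : ℕ} {a b c d e : ℤ} (h : a + b + c + d + e = 0)
    (hq : a ^ 2 + b ^ 2 + c ^ 2 + d ^ 2 + e ^ 2 = 2 * N) (h5 : ¬ 5 ∣ b + 2 * c + 3 * d + 4 * e) : Dist5 N := by
  refine ⟨e - d - c + b, a - e - d + c, b - a - e + d, c - b - a + e, d - c - b + a, by ring, ?_, ?_⟩
  · have he : e = -a - b - c - d := by linarith
    subst he
    linear_combination (5 : ℤ) * hq
  · refine ⟨?_, ?_, ?_, ?_, ?_, ?_, ?_, ?_, ?_, ?_⟩ <;> omega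

theorem dist5_of_nc5 {N : ℕ} (h : NC5 N) : Dist5 N := by
  obtain ⟨a, b, c, d, e, h1, h2, h3⟩ := h
  by_cases h0 : 5 ∣ b + 2 * c + 3 * d + 4 * e
  swap
  · exact dist5_of h1 h2 h0
  by_cases h4 : 5 ∣ a - b
  swap
  · exact dist5_of (a := b) (b := a) (c := c) (d := d) (e := e) (by linarith) (by linarith) (by omega)
  by_cases h5 : 5 ∣ b - c
  swap
  · exact dist5_of (a := a) (b := c) (c := b) (d := d) (e := e) (by linarith) (by linarith) (by omega)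
  by_cases h6 : 5 ∣ c - d
  swap
  · exact dist5_of (a := a) (b := b) (c := d) (d := c) (e := e) (by linarith) (by linarith) (by omega)
  by_cases h7 : 5 ∣ d - e
  swap
  · exact dist5_of (a := a) (b := b) (c := c) (d := e) (e := d) (by linarith) (by linarith) (by omega)
  exact absurd ⟨h4, h5, h6, h7⟩ h3

/-- an odd number is, up to sign, one modulo 4 -/
theorem sign4 {t : ℤ} (h : t % 2 = 1) : ∃ s : ℤ, t ^ 2 = (4 * s + 1) ^ 2 := by
  have : t % 4 = 1 ∨ t % 4 = 3 := by omega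
  rcases this with h | h
  · exact ⟨t / 4, by congr 1; omega⟩
  · refine ⟨-(t / 4) - 1, ?_⟩
    have : 4 * (-(t / 4) - 1) + 1 = -t := by omega
    rw [this]; ring

/-- `A₄` is universal -/
theorem univ_A4 {N : ℕ} (hN : 1 ≤ N) :
    ∃ a b c d e : ℤ, a + b + c + d + e = 0 ∧ a ^ 2 + b ^ 2 + c ^ 2 + d ^ 2 + e ^ 2 = 2 * N := by
  obtain ⟨m, hm⟩ : ∃ m : ℕ, m + 5 = 8 * N := ⟨8 * N - 5, by omega⟩
  obtain ⟨x, y, z, h⟩ := three_sq_three (m := m) (by omega)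
  have hsq : ∀ t : ℤ, (t % 2 = 0 ∧ t ^ 2 % 4 = 0) ∨ (t % 2 = 1 ∧ t ^ 2 % 4 = 1) := by
    intro t
    rcases Int.emod_two_eq_zero_or_one t with ht | ht
    · left
      refine ⟨ht, ?_⟩
      obtain ⟨s, rfl⟩ : ∃ s, t = 2 * s := ⟨t / 2, by omega⟩
      have : (2 * s) ^ 2 = 4 * s ^ 2 := by ring
      omega
    · right
      refine ⟨ht, ?_⟩
      obtain ⟨s, rfl⟩ : ∃ s, t = 2 * s + 1 := ⟨t / 2, by omega⟩
      have : (2 * s + 1) ^ 2 = 4 * (s ^ 2 + s) + 1 := by ring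
      omega
  have h4 : (x ^ 2 + y ^ 2 + z ^ 2) % 4 = 3 := by rw [← h]; omega
  have hx : x % 2 = 1 := by rcases hsq x with h1 | h1 <;> rcases hsq y with h2 | h2 <;> rcases hsq z with h3 | h3 <;> omega
  have hy : y % 2 = 1 := by rcases hsq x with h1 | h1 <;> rcases hsq y with h2 | h2 <;> rcases hsq z with h3 | h3 <;> omega
  have hz : z % 2 = 1 := by rcases hsq x with h1 | h1 <;> rcases hsq y with h2 | h2 <;> rcases hsq z with h3 | h3 <;> omega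
  obtain ⟨p, hp⟩ := sign4 hx
  obtain ⟨q, hq⟩ := sign4 hy
  obtain ⟨r, hr⟩ := sign4 hz
  rw [hp, hq, hr] at h
  have hm' : (m : ℤ) = 8 * N - 5 := by omega
  rw [hm'] at h
  refine ⟨1 + p + q + r, p - q - r, q - p - r, r - p - q, -1, by ring, ?_⟩
  linarith

theorem nc5 (N : ℕ) : 1 ≤ N → NC5 N := by
  induction N using Nat.strong_induction_on with
  | _ N ih =>
    intro hN
    by_cases h5 : 5 ∣ N
    · obtain ⟨M, rfl⟩ := h5
      obtain ⟨a, b, c, d, e, h1, h2, h3⟩ := dist5_of_nc5 (ih M (by omega) (by omega))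
      exact ⟨a, b, c, d, e, h1, by rw [h2]; push_cast; ring, fun h => h3.1 h.1⟩
    · obtain ⟨a, b, c, d, e, h1, h2⟩ := univ_A4 hN
      refine ⟨a, b, c, d, e, h1, h2, ?_⟩
      rintro ⟨⟨t, ht⟩, ⟨u, hu⟩, ⟨v, hv⟩, ⟨w, hw⟩⟩
      apply h5
      have ha : a = e + 5 * (t + u + v + w) := by linarith
      have hb : b = e + 5 * (u + v + w) := by linarith
      have hc : c = e + 5 * (v + w) := by linarith
      have hd : d = e + 5 * w := by linarith
      have h6 : (5 : ℤ) ∣ 2 * N := by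
        rw [← h2, ha, hb, hc, hd]
        exact ⟨e ^ 2 + (2 * e * (t + u + v + w) + 5 * (t + u + v + w) ^ 2) + (2 * e * (u + v + w) + 5 * (u + v + w) ^ 2)
          + (2 * e * (v + w) + 5 * (v + w) ^ 2) + (2 * e * w + 5 * w ^ 2), by ring⟩
      omega

theorem hasCore5 (n : ℕ) : HasCore 5 n := by
  obtain ⟨a, b, c, d, e, h1, h2, h3⟩ := dist5_of_nc5 (nc5 (n + 1) (by omega))
  obtain ⟨k1, k2, k3, k4, k5, k6, k7, k8, k9, k10⟩ := h3
  refine hasCore_of_distinct (h := 2) rfl ![a, b, c, d, e] ?_ ?_ ?_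
  · intro i j
    fin_cases i <;> fin_cases j <;> simp <;> omega
  · simp [Fin.sum_univ_succ]
    linarith
  · simp [Fin.sum_univ_succ, Finset.sum_range_succ]
    push_cast at h2
    linarith

end Cfsg.Agent.R2.DZ.T1
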