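import Cfsg.Agent.R2.DZ.T1.Dist
import Cfsg.Agent.R2.DZ.T1.ThreeSq

/-!
# `7`-cores (helper2)
-/

set_option autoImplicit false

namespace Cfsg.Agent.R2.DZ.T1

open Finset

/-- a rotation of norm `49` whose image is not divisible by 7 -/
theorem rot7 {x y z : ℤ} (h : ¬ (7 ∣ x ∧ 7 ∣ y ∧ 7 ∣ z)) :
    ∃ u v w : ℤ, u ^ 2 + v ^ 2 + w ^ 2 = 49 * (x ^ 2 + y ^ 2 + z ^ 2) ∧ ¬ (7 ∣ u ∧ 7 ∣ v ∧ 7 ∣ w) := by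
  by_cases h1 : (7 : ℤ) ∣ 3 * x - 2 * y + 6 * z
  · by_cases h2 : (7 : ℤ) ∣ 3 * (-x) - 2 * y + 6 * z
    · by_cases h3 : (7 : ℤ) ∣ 3 * x - 2 * (-y) + 6 * z
      · exfalso
        apply h
        refine ⟨?_, ?_, ?_⟩ <;> omega
      · exact ⟨3 * x - 2 * (-y) + 6 * z, 6 * x + 3 * (-y) - 2 * z, -2 * x + 6 * (-y) + 3 * z, by ring, fun h => h3 h.1⟩
    · exact ⟨3 * (-x) - 2 * y + 6 * z, 6 * (-x) + 3 * y - 2 * z, -2 * (-x) + 6 * y + 3 * z, by ring, fun h => h2 h.1⟩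
  · exact ⟨3 * x - 2 * y + 6 * z, 6 * x + 3 * y - 2 * z, -2 * x + 6 * y + 3 * z, by ring, fun h => h1 h.1⟩

/-- a representation as a sum of three squares can be chosen prime to 7 -/
theorem prim7 (m : ℕ) : ∀ x y z : ℤ, (m : ℤ) = x ^ 2 + y ^ 2 + z ^ 2 → 0 < m →
    ∃ u v w : ℤ, (m : ℤ) = u ^ 2 + v ^ 2 + w ^ 2 ∧ ¬ (7 ∣ u ∧ 7 ∣ v ∧ 7 ∣ w) := by
  induction m using Nat.strong_induction_on with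
  | _ m ih =>
    intro x y z hm hm0
    by_cases h : 7 ∣ x ∧ 7 ∣ y ∧ 7 ∣ z
    · obtain ⟨⟨x', rfl⟩, ⟨y', rfl⟩, ⟨z', rfl⟩⟩ := h
      have h1 : (m : ℤ) = 49 * (x' ^ 2 + y' ^ 2 + z' ^ 2) := by rw [hm]; ring
      obtain ⟨m', hm'⟩ : ∃ m' : ℕ, (m' : ℤ) = x' ^ 2 + y' ^ 2 + z' ^ 2 :=
        ⟨(x' ^ 2 + y' ^ 2 + z' ^ 2).toNat, Int.toNat_of_nonneg (by positivity)⟩
      obtain ⟨u, v, w, h2, h3⟩ := ih m' (by omega) x' y' z' hm' (by omega)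
      obtain ⟨u', v', w', h4, h5⟩ := rot7 h3
      exact ⟨u', v', w', by rw [h4, ← h2, hm', h1], h5⟩
    · exact ⟨x, y, z, hm, h⟩

theorem sq7 : ∀ a b c : ZMod 7, a ^ 2 + b ^ 2 + c ^ 2 = 0 → ¬ (a = 0 ∧ b = 0 ∧ c = 0) →
    a ≠ 0 ∧ b ≠ 0 ∧ c ≠ 0 ∧ a ≠ b ∧ a ≠ -b ∧ a ≠ c ∧ a ≠ -c ∧ b ≠ c ∧ b ≠ -c := by decide

theorem sq7' {a b c : ℤ} (h : (7 : ℤ) ∣ a ^ 2 + b ^ 2 + c ^ 2) (h' : ¬ (7 ∣ a ∧ 7 ∣ b ∧ 7 ∣ c)) :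
    ¬ 7 ∣ a ∧ ¬ 7 ∣ b ∧ ¬ 7 ∣ c ∧ ¬ 7 ∣ a - b ∧ ¬ 7 ∣ a + b ∧ ¬ 7 ∣ a - c ∧ ¬ 7 ∣ a + c ∧ ¬ 7 ∣ b - c ∧ ¬ 7 ∣ b + c := by
  have key : ∀ t : ℤ, (7 : ℤ) ∣ t ↔ ((t : ℤ) : ZMod 7) = 0 := fun t => (ZMod.intCast_zmod_eq_zero_iff_dvd t 7).symm
  simp only [key] at h h' ⊢
  push_cast at h h' ⊢
  obtain ⟨h1, h2, h3, h4, h5, h6, h7, h8, h9⟩ := sq7 _ _ _ h h'
  refine ⟨h1, h2, h3, sub_ne_zero.2 h4, ?_, sub_ne_zero.2 h6, ?_, sub_ne_zero.2 h8, ?_⟩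
  · intro h; exact h5 (eq_neg_of_add_eq_zero_left h)
  · intro h; exact h7 (eq_neg_of_add_eq_zero_left h)
  · intro h; exact h9 (eq_neg_of_add_eq_zero_left h)

/-- the core from the three squares, the first two being odd -/
theorem hasCore7_of {n : ℕ} {a b c : ℤ} (h : 28 * (n : ℤ) - 42 = a ^ 2 + b ^ 2 + c ^ 2) (ha : a % 2 = 1) (hb : b % 2 = 1)
    (hc : c % 2 = 0) (h7 : ¬ (7 ∣ a ∧ 7 ∣ b ∧ 7 ∣ c)) : HasCore 7 n := by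
  obtain ⟨a', rfl⟩ : ∃ a', a = 2 * a' + 1 := ⟨a / 2, by omega⟩
  obtain ⟨b', rfl⟩ : ∃ b', b = 2 * b' + 1 := ⟨b / 2, by omega⟩
  obtain ⟨c', rfl⟩ : ∃ c', c = 2 * c' := ⟨c / 2, by omega⟩
  obtain ⟨h1, h2, h3, h4, h5, h6, h7, h8, h9⟩ := sq7' (by rw [← h]; omega) h7
  refine hasCore_of_distinct (h := 3) rfl ![4 + a', 3 - a', -3 + b', -4 - b', c', -c', 0] ?_ ?_ ?_
  · intro i j
    fin_cases i <;> fin_cases j <;> simp <;> omega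
  · simp [Fin.sum_univ_succ]
    ring
  · simp [Fin.sum_univ_succ, Finset.sum_range_succ]
    linarith

theorem hasCore7 {n : ℕ} (hn : 2 ≤ n) : HasCore 7 n := by
  obtain ⟨m, hm⟩ : ∃ m : ℕ, m + 42 = 28 * n := ⟨28 * n - 42, by omega⟩
  obtain ⟨x, y, z, h⟩ := three_sq_two (m := m) (by omega)
  obtain ⟨a, b, c, h1, h2⟩ := prim7 m x y z h (by omega)
  have h3 : 28 * (n : ℤ) - 42 = a ^ 2 + b ^ 2 + c ^ 2 := by rw [← h1]; omega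
  have hsq : ∀ t : ℤ, (t % 2 = 0 ∧ t ^ 2 % 4 = 0) ∨ (t % 2 = 1 ∧ t ^ 2 % 4 = 1) := by
    intro t
    rcases Int.emod_two_eq_zero_or_one t with ht | ht
    · left
      refine ⟨ht, ?_⟩
      obtain ⟨s, rfl⟩ : ∃ s, t = 2 * s := ⟨t / 2, by omega⟩
      have : (2 * s) ^ 2 = 4 * s ^ 2 := by ring
      omega
    · right
      refine ⟨ht, ?_⟩
      obtain ⟨s, rfl⟩ : ∃ s, t = 2 * s + 1 := ⟨t / 2, by omega⟩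
      have : (2 * s + 1) ^ 2 = 4 * (s ^ 2 + s) + 1 := by ring
      omega
  have h4 : (a ^ 2 + b ^ 2 + c ^ 2) % 4 = 2 := by rw [← h3]; omega
  rcases hsq a with ⟨a1, a2⟩ | ⟨a1, a2⟩ <;> rcases hsq b with ⟨b1, b2⟩ | ⟨b1, b2⟩ <;>
    rcases hsq c with ⟨c1, c2⟩ | ⟨c1, c2⟩ <;> try (exfalso; omega)
  · exact hasCore7_of (a := b) (b := c) (c := a) (by rw [h3]; ring) b1 c1 a1 (fun h => h2 ⟨h.2.2, h.1, h.2.1⟩)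
  · exact hasCore7_of (a := a) (b := c) (c := b) (by rw [h3]; ring) a1 c1 b1 (fun h => h2 ⟨h.1, h.2.2, h.2.1⟩)
  · exact hasCore7_of h3 a1 b1 c1 h2

end Cfsg.Agent.R2.DZ.T1
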