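import Cfsg.Agent.R2.DZ.Iface
import Cfsg.Agent.R2.DZ.T1.Beads
import Cfsg.Agent.R2.DZ.T1.Five
import Cfsg.Agent.R2.DZ.T1.Seven
import Cfsg.Agent.H513.HNF.AltDZ
import Cfsg.Agent.H678.PV.Alt

/-!
# S4527, box T1: the alternating groups (helper2)

* `hasCore` : `p`-cores exist, `p ≥ 5` prime;
* `hasDZ_of_core` : characters of defect zero from `p`-cores;
* `alt` : the row of the alternating groups.
-/

set_option autoImplicit false

open Cfsg

namespace Cfsg.Agent.R2.DZ.T1

open Finset Cfsg.Agent.H704 Cfsg.Agent.H614 Cfsg.Agent.H797.AD Cfsg.Agent.H665.NoPQ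

universe u

theorem hasCore {p n : ℕ} (hp : p.Prime) (h5 : 5 ≤ p) (hn : 2 * p ≤ n) : HasCore p n := by
  by_cases h : 13 ≤ p ∨ p = 11
  · exact hasCore_big h hn
  · have h1 : p < 13 := by omega
    have h2 : p ≠ 11 := by omega
    interval_cases p
    · exact hasCore5 n
    · exact absurd hp (by norm_num)
    · exact hasCore7 (by omega)
    · exact absurd hp (by norm_num)
    · exact absurd hp (by norm_num)
    · exact absurd hp (by norm_num)
    · exact absurd rfl h2
    · exact absurd hp (by norm_num)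

theorem hasDZ_of_core {p n : ℕ} (hp : p.Prime) (hp2 : p ≠ 2) (hn : 2 ≤ n) (h : HasCore p n) :
    HasDZ p (alternatingGroup (Fin n)) := by
  obtain ⟨v, hv1, hv2⟩ := h
  obtain ⟨X, hX1, hX2⟩ := exists_core hp.pos v hv1 hv2
  let β : Fin X.card → ℕ := X.orderEmbOfFin rfl
  have hβ : StrictMono β := (X.orderEmbOfFin rfl).strictMono
  have hβX : univ.image β = X := by
    have := Finset.image_orderEmbOfFin_univ X rfl
    exact this
  have hs : ∑ i, β i = n + ∑ i : Fin X.card, (i : ℕ) := by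
    rw [Fin.sum_univ_eq_sum_range (fun i => i), ← hX2]
    conv_rhs => rw [← hβX]
    rw [sum_image fun i _ j _ hij => hβ.injective hij]
  have h1 : ¬ p ∣ hookProd (lam X.card β) := by
    rw [hookProd_lam hβ, hβX]
    exact not_dvd_hp hp hX1
  refine Cfsg.Agent.H513.HNF.hasDZ_alt hn hβ hs hp hp2 h1 ?_
  have h2 := FM_mul_hookProd hβ hs
  exact_mod_cast Dvd.intro_left _ h2

theorem not_sq_dvd_factorial {p n : ℕ} (hp : p.Prime) (h2 : n < 2 * p) : ¬ p ^ 2 ∣ n.factorial := by
  have hlog : Nat.log p n < 2 := by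
    apply Nat.log_lt_of_lt_pow' (by norm_num)
    have := hp.two_le
    nlinarith
  rw [hp.pow_dvd_factorial_iff hlog]
  simp only [Nat.Ico_succ_singleton, sum_singleton, pow_one, not_le]
  exact Nat.div_lt_of_lt_mul (by omega)

theorem hasDZ_alternating {p n : ℕ} (hp : p.Prime) (h5 : 5 ≤ p) (hn : 5 ≤ n) : HasDZ p (alternatingGroup (Fin n)) := by
  by_cases h : 2 * p ≤ n
  · exact hasDZ_of_core hp (by omega) (by omega) (hasCore hp h5 h)
  · by_cases hd : p ∣ n.factorial / 2
    · have h2d : 2 ∣ n.factorial := Nat.dvd_factorial (by norm_num) (by omega)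
      have h3 : ¬ p ^ 2 ∣ n.factorial := not_sq_dvd_factorial hp (by omega)
      exact Cfsg.Agent.H678.PV.hasDZ_alt n hn hp hd fun h2 => h3 (h2.trans (Nat.div_dvd_of_dvd h2d))
    · refine hasDZ_of_not_dvd ?_
      rw [Cfsg.Agent.H678.PV.card_alt n (by omega)]
      exact hd

/-- **the row of the alternating groups** -/
theorem alt : Row.{u} @IsAlternating := by
  intro G _ _ _ _ hG p hp h5
  obtain ⟨n, hn, ⟨e⟩⟩ := hG
  exact congr e.symm (hasDZ_alternating hp h5 hn)

end Cfsg.Agent.R2.DZ.T1
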