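import Mathlib

/-!
# Reduction of positive binary and ternary forms of determinant one (helper2)

* `bin_reduce` : a positive binary form of determinant `D` takes, at a primitive vector, a value `A` with `3A² ≤ 4D`;
* `bin_one` : a positive binary form of determinant 1 is a sum of two squares;
* `ter_one` : a positive ternary form of determinant 1 is a sum of three squares.
-/

set_option autoImplicit false

namespace Cfsg.Agent.R2.DZ.T1

/-- a residue of absolute value at most half of the modulus -/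
theorem exists_near (a g : ℤ) (ha : 0 < a) : ∃ t : ℤ, |2 * (g + a * t)| ≤ a := by
  refine ⟨-((2 * g + a) / (2 * a)), ?_⟩
  have h1 := Int.emod_nonneg (2 * g + a) (by omega : (2 * a) ≠ 0)
  have h2 := Int.emod_lt_of_pos (2 * g + a) (by omega : 0 < 2 * a)
  have h3 := Int.emod_add_mul_ediv (2 * g + a) (2 * a)
  rw [abs_le]
  constructor <;> nlinarith

theorem bin_reduce (n : ℕ) : ∀ (A B C : ℤ), A.toNat = n → 0 < A → 0 < A * C - B ^ 2 →
    ∃ p q r s : ℤ, p * s - q * r = 1 ∧ 0 < A * p ^ 2 + 2 * B * p * r + C * r ^ 2 ∧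
      3 * (A * p ^ 2 + 2 * B * p * r + C * r ^ 2) ^ 2 ≤ 4 * (A * C - B ^ 2) := by
  induction n using Nat.strong_induction_on with
  | _ n ih =>
    intro A B C hn hA hD
    obtain ⟨t, ht⟩ := exists_near A B hA
    set B' : ℤ := B + A * t with hB'
    set C' : ℤ := A * t ^ 2 + 2 * B * t + C with hC'
    have hdet : A * C' - B' ^ 2 = A * C - B ^ 2 := by rw [hB', hC']; ring
    have hB2 : 4 * B' ^ 2 ≤ A ^ 2 := by
      have := sq_le_sq' (neg_le_of_abs_le ht) (le_of_abs_le ht)
      nlinarith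
    have hC0 : 0 < C' := by
      by_contra hc
      push Not at hc
      nlinarith [sq_nonneg B']
    rcases lt_or_ge C' A with hlt | hge
    · obtain ⟨p, q, r, s, h1, h0, h2⟩ := ih C'.toNat (by omega) C' (-B') A rfl hC0 (by nlinarith)
      refine ⟨t * p - r, t * q - s, p, q, by linear_combination h1, ?_, ?_⟩
      · have e : A * (t * p - r) ^ 2 + 2 * B * (t * p - r) * p + C * p ^ 2
            = C' * p ^ 2 + 2 * (-B') * p * r + A * r ^ 2 := by rw [hB', hC']; ring
        rw [e]; exact h0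
      · have e : A * (t * p - r) ^ 2 + 2 * B * (t * p - r) * p + C * p ^ 2
            = C' * p ^ 2 + 2 * (-B') * p * r + A * r ^ 2 := by rw [hB', hC']; ring
        rw [e]
        nlinarith
    · refine ⟨1, 0, 0, 1, by ring, by nlinarith, ?_⟩
      have : A ^ 2 ≤ A * C' := by nlinarith
      nlinarith

/-- positive binary forms of determinant one -/
theorem bin_one {A B C : ℤ} (hA : 0 < A) (hD : A * C - B ^ 2 = 1) (y z : ℤ) :
    ∃ u v : ℤ, A * y ^ 2 + 2 * B * y * z + C * z ^ 2 = u ^ 2 + v ^ 2 := by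
  obtain ⟨p, q, r, s, h1, h0, h2⟩ := bin_reduce _ A B C rfl hA (by omega)
  set A' : ℤ := A * p ^ 2 + 2 * B * p * r + C * r ^ 2 with hA'
  have hA1 : A' = 1 := by
    rw [hD] at h2
    nlinarith
  set B' : ℤ := A * p * q + B * (p * s + q * r) + C * r * s with hB'
  set C' : ℤ := A * q ^ 2 + 2 * B * q * s + C * s ^ 2 with hC'
  have hdet : A' * C' - B' ^ 2 = 1 := by
    have : A' * C' - B' ^ 2 = (A * C - B ^ 2) * (p * s - q * r) ^ 2 := by rw [hA', hB', hC']; ring
    rw [this, h1, hD]; ring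
  -- `y = p Y + q Z`, `z = r Y + s Z`
  set Y : ℤ := s * y - q * z with hY
  set Z : ℤ := -r * y + p * z with hZ
  have hy : y = p * Y + q * Z := by rw [hY, hZ]; linear_combination (-y) * h1
  have hz : z = r * Y + s * Z := by rw [hY, hZ]; linear_combination (-z) * h1
  refine ⟨Y + B' * Z, Z, ?_⟩
  have e : A * y ^ 2 + 2 * B * y * z + C * z ^ 2 = A' * Y ^ 2 + 2 * B' * Y * Z + C' * Z ^ 2 := by
    rw [hy, hz, hA', hB', hC']; ring
  rw [e, hA1]
  have h3 : C' = 1 + B' ^ 2 := by rw [hA1] at hdet; linear_combination hdet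
  rw [h3]; ring

/-- the ternary form with the given coefficients -/
def ter (a b c d e g x y z : ℤ) : ℤ :=
  a * x ^ 2 + b * y ^ 2 + c * z ^ 2 + 2 * d * y * z + 2 * e * x * z + 2 * g * x * y

/-- the determinant -/
def tdet (a b c d e g : ℤ) : ℤ := a * b * c + 2 * d * e * g - a * d ^ 2 - b * e ^ 2 - c * g ^ 2

/-- **positive ternary forms of determinant one are sums of three squares** -/
theorem ter_one (n : ℕ) : ∀ (a b c d e g : ℤ), a.toNat = n → 0 < a → 0 < a * b - g ^ 2 → tdet a b c d e g = 1 →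
    ∀ x y z : ℤ, ∃ u v w : ℤ, ter a b c d e g x y z = u ^ 2 + v ^ 2 + w ^ 2 := by
  induction n using Nat.strong_induction_on with
  | _ n ih =>
    intro a b c d e g hn ha hb hdet x y z
    -- the binary form `K`
    have hK : (a * b - g ^ 2) * (a * c - e ^ 2) - (a * d - e * g) ^ 2 = a := by
      have : (a * b - g ^ 2) * (a * c - e ^ 2) - (a * d - e * g) ^ 2 = a * tdet a b c d e g := by
        rw [tdet]; ring
      rw [this, hdet, mul_one]
    obtain ⟨p, q, r, s, h1, h0, h2⟩ := bin_reduce _ (a * b - g ^ 2) (a * d - e * g) (a * c - e ^ 2) rfl hb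
      (by rw [hK]; exact ha)
    rw [hK] at h2
    -- the new form, after a substitution in `y, z`
    set g1 : ℤ := g * p + e * r with hg1
    set b1 : ℤ := b * p ^ 2 + 2 * d * p * r + c * r ^ 2 with hb1
    set e1 : ℤ := g * q + e * s with he1
    set c1 : ℤ := b * q ^ 2 + 2 * d * q * s + c * s ^ 2 with hc1
    set d1 : ℤ := b * p * q + d * (p * s + q * r) + c * r * s with hd1
    set K : ℤ := (a * b - g ^ 2) * p ^ 2 + 2 * (a * d - e * g) * p * r + (a * c - e ^ 2) * r ^ 2 with hKd
    have hKv : a * b1 - g1 ^ 2 = K := by rw [hb1, hg1, hKd]; ring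
    have hdet1 : tdet a b1 c1 d1 e1 g1 = 1 := by
      have : tdet a b1 c1 d1 e1 g1 = tdet a b c d e g * (p * s - q * r) ^ 2 := by
        rw [tdet, tdet, hb1, hc1, hd1, he1, hg1]; ring
      rw [this, h1, hdet]; ring
    set Y : ℤ := s * y - q * z with hY
    set Z : ℤ := -r * y + p * z with hZ
    have hy : y = p * Y + q * Z := by rw [hY, hZ]; linear_combination (-y) * h1
    have hz : z = r * Y + s * Z := by rw [hY, hZ]; linear_combination (-z) * h1
    have e1' : ter a b c d e g x y z = ter a b1 c1 d1 e1 g1 x Y Z := by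
      rw [ter, ter, hy, hz, hb1, hc1, hd1, he1, hg1]; ring
    rw [e1']
    -- translations
    obtain ⟨t, ht⟩ := exists_near a g1 ha
    obtain ⟨t', ht'⟩ := exists_near a e1 ha
    set g2 : ℤ := g1 + a * t with hg2
    set e2 : ℤ := e1 + a * t' with he2
    set b2 : ℤ := b1 + 2 * g1 * t + a * t ^ 2 with hb2
    set c2 : ℤ := c1 + 2 * e1 * t' + a * t' ^ 2 with hc2
    set d2 : ℤ := d1 + g1 * t' + e1 * t + a * t * t' with hd2
    have hKv2 : a * b2 - g2 ^ 2 = K := by rw [← hKv, hb2, hg2]; ring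
    have hdet2 : tdet a b2 c2 d2 e2 g2 = 1 := by
      rw [← hdet1, tdet, tdet, hb2, hc2, hd2, he2, hg2]; ring
    set X : ℤ := x - t * Y - t' * Z with hX
    have e2' : ter a b1 c1 d1 e1 g1 x Y Z = ter a b2 c2 d2 e2 g2 X Y Z := by
      rw [ter, ter, hX, hb2, hc2, hd2, he2, hg2]; ring
    rw [e2']
    have hg4 : 4 * g2 ^ 2 ≤ a ^ 2 := by
      have h4 := sq_le_sq' (neg_le_of_abs_le ht) (le_of_abs_le ht)
      have e : (2 * (g1 + a * t)) ^ 2 = 4 * g2 ^ 2 := by rw [hg2]; ring
      rwa [e] at h4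
    rcases lt_or_ge b2 a with hlt | hge
    · -- swap `x` and `y`
      have hb20 : 0 < b2 := by
        by_contra hc
        push Not at hc
        have h4 := mul_nonneg ha.le (neg_nonneg.2 hc)
        have h5 := sq_nonneg g2
        linarith
      obtain ⟨u, v, w, h3⟩ := ih b2.toNat (by omega) b2 a c2 e2 d2 g2 rfl hb20 (by linarith)
        (by rw [← hdet2, tdet, tdet]; ring) Y X Z
      refine ⟨u, v, w, ?_⟩
      rw [← h3, ter, ter]; ring
    · -- then `a = 1`
      have h4 := mul_le_mul_of_nonneg_left hge ha.le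
      have h5 : 3 * a ^ 2 ≤ 4 * K := by
        have e : a ^ 2 = a * a := sq a
        linarith
      have h6 : (3 * a ^ 2) ^ 2 ≤ (4 * K) ^ 2 := by
        apply pow_le_pow_left₀ (by positivity) h5
      have h7 : 27 * a ^ 4 ≤ 64 * a := by
        have e1 : (3 * a ^ 2) ^ 2 = 9 * a ^ 4 := by ring
        have e2 : (4 * K) ^ 2 = 16 * K ^ 2 := by ring
        rw [e1, e2] at h6
        linarith
      have ha1 : a = 1 := by
        by_contra hne
        have h8 : 2 ≤ a := by omega
        have h9 : 8 ≤ a ^ 3 := by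
          calc (8 : ℤ) = 2 ^ 3 := by norm_num
            _ ≤ a ^ 3 := pow_le_pow_left₀ (by norm_num) h8 3
        have h10 : 27 * a ^ 3 ≤ 64 := by
          have : a * (27 * a ^ 3) ≤ a * 64 := by
            have e1 : a * (27 * a ^ 3) = 27 * a ^ 4 := by ring
            linarith
          exact le_of_mul_le_mul_left this ha
        omega
      rw [ha1] at hdet2 hKv2 ⊢
      have hdet3 : (b2 - g2 ^ 2) * (c2 - e2 ^ 2) - (d2 - e2 * g2) ^ 2 = 1 := by
        rw [← hdet2, tdet]; ring
      obtain ⟨u, v, h11⟩ := bin_one (A := b2 - g2 ^ 2) (B := d2 - e2 * g2) (C := c2 - e2 ^ 2) (by omega) hdet3 Y Z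
      refine ⟨X + g2 * Y + e2 * Z, u, v, ?_⟩
      have : ter 1 b2 c2 d2 e2 g2 X Y Z = (X + g2 * Y + e2 * Z) ^ 2 + ((b2 - g2 ^ 2) * Y ^ 2
          + 2 * (d2 - e2 * g2) * Y * Z + (c2 - e2 ^ 2) * Z ^ 2) := by
        rw [ter]; ring
      rw [this, h11]; ring

end Cfsg.Agent.R2.DZ.T1
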