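import Mathlib

/-!
# The vectors of `p`-cores (helper2)

* `HasCore p n` : there is `v ∈ ℤ ^ p` with `∑ v = 0` and `p |v|² + 2 ∑ i v_i = 2 n`;
* `hasCore_of_list` : sparse vectors;
* `cube` : the lemma of the cube (Lagrange's theorem on four squares);
* `hasCore_big` : the primes `p ≥ 11`.
-/

set_option autoImplicit false

namespace Cfsg.Agent.R2.DZ.T1

open Finset

/-- the existence of a `p`-core of `n`, as a vector -/
def HasCore (p n : ℕ) : Prop :=
  ∃ v : ℕ → ℤ, ∑ i ∈ range p, v i = 0 ∧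
    (p : ℤ) * ∑ i ∈ range p, v i ^ 2 + 2 * ∑ i ∈ range p, (i : ℤ) * v i = 2 * n

theorem exists_of_list (p : ℕ) : ∀ (L : List (ℕ × ℤ)), (L.map Prod.fst).Nodup → (∀ x ∈ L, x.1 < p) →
    ∃ v : ℕ → ℤ, (∀ i, i ∉ L.map Prod.fst → v i = 0) ∧ ∑ i ∈ range p, v i = (L.map Prod.snd).sum ∧
      ∑ i ∈ range p, v i ^ 2 = (L.map fun x => x.2 ^ 2).sum ∧
      ∑ i ∈ range p, (i : ℤ) * v i = (L.map fun x => (x.1 : ℤ) * x.2).sum := by
  intro L
  induction L with
  | nil => intro _ _; exact ⟨fun _ => 0, fun _ _ => rfl, by simp, by simp, by simp⟩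
  | cons x L ih =>
    intro hnd hlt
    rw [List.map_cons, List.nodup_cons] at hnd
    obtain ⟨v, h0, h1, h2, h3⟩ := ih hnd.2 (fun y hy => hlt y (List.mem_cons_of_mem _ hy))
    have hx : x.1 ∈ range p := mem_range.2 (hlt x (by simp))
    have hvx := h0 _ hnd.1
    refine ⟨Function.update v x.1 x.2, ?_, ?_, ?_, ?_⟩
    · intro i hi
      rw [List.map_cons, List.mem_cons] at hi
      push Not at hi
      rw [Function.update_of_ne hi.1]
      exact h0 i hi.2
    · rw [← Finset.add_sum_erase _ _ hx, Function.update_self, List.map_cons, List.sum_cons, ← h1,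
        ← Finset.add_sum_erase _ v hx, hvx, zero_add]
      congr 1
      exact sum_congr rfl fun i hi => by rw [Function.update_of_ne (ne_of_mem_erase hi)]
    · rw [← Finset.add_sum_erase _ _ hx, Function.update_self, List.map_cons, List.sum_cons, ← h2,
        ← Finset.add_sum_erase _ (fun i => v i ^ 2) hx, hvx]
      simp only [ne_eq, OfNat.ofNat_ne_zero, not_false_eq_true, zero_pow, zero_add]
      congr 1
      exact sum_congr rfl fun i hi => by rw [Function.update_of_ne (ne_of_mem_erase hi)]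
    · rw [← Finset.add_sum_erase _ _ hx, Function.update_self, List.map_cons, List.sum_cons, ← h3,
        ← Finset.add_sum_erase _ (fun i : ℕ => (i : ℤ) * v i) hx, hvx]
      simp only [mul_zero, zero_add]
      congr 1
      exact sum_congr rfl fun i hi => by rw [Function.update_of_ne (ne_of_mem_erase hi)]

theorem hasCore_of_list {p n : ℕ} (L : List (ℕ × ℤ)) (hnd : (L.map Prod.fst).Nodup) (hlt : ∀ x ∈ L, x.1 < p)
    (hs : (L.map Prod.snd).sum = 0)
    (hn : (p : ℤ) * (L.map fun x => x.2 ^ 2).sum + 2 * (L.map fun x => (x.1 : ℤ) * x.2).sum = 2 * n) :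
    HasCore p n := by
  obtain ⟨v, -, h1, h2, h3⟩ := exists_of_list p L hnd hlt
  exact ⟨v, by rw [h1, hs], by rw [h2, h3, hn]⟩

/-- **the lemma of the cube** -/
theorem cube {p n : ℕ} (c α β γ : ℕ) (L : List (ℕ × ℤ)) (k : ℕ)
    (hnd : ([c, c + α, c + β, c + γ, c + α + β, c + α + γ, c + β + γ, c + α + β + γ] ++ L.map Prod.fst).Nodup)
    (hc : c + α + β + γ < p) (hlt : ∀ x ∈ L, x.1 < p) (hs : (L.map Prod.snd).sum = 0)
    (hn : (p : ℤ) * (L.map fun x => x.2 ^ 2).sum + 2 * (L.map fun x => (x.1 : ℤ) * x.2).sum + 4 * p * k = 2 * n) :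
    HasCore p n := by
  obtain ⟨x, y, z, w, h⟩ := Nat.sum_four_squares (2 * k)
  obtain ⟨e, he⟩ : ∃ e : ℤ, (x : ℤ) + y + z + w = 2 * e := by
    have h1 : (x ^ 2 + y ^ 2 + z ^ 2 + w ^ 2) % 2 = 0 := by rw [h]; omega
    have h2 : ∀ t : ℕ, t ^ 2 % 2 = t % 2 := fun t => by
      rw [Nat.pow_mod]; rcases Nat.mod_two_eq_zero_or_one t with h | h <;> rw [h]
    have h3 : (x + y + z + w) % 2 = 0 := by
      have := h2 x; have := h2 y; have := h2 z; have := h2 w
      omega
    exact ⟨((x + y + z + w) / 2 : ℕ), by omega⟩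
  have hw : (w : ℤ) = 2 * e - x - y - z := by linear_combination he
  have h' : (x : ℤ) ^ 2 + y ^ 2 + z ^ 2 + (2 * e - x - y - z) ^ 2 = 2 * k := by
    rw [← hw]; exact_mod_cast h
  refine hasCore_of_list ([(c, e), (c + α, (z : ℤ) - e), (c + β, (y : ℤ) - e), (c + γ, (x : ℤ) - e),
    (c + α + β, e - y - z), (c + α + γ, e - x - z), (c + β + γ, e - x - y), (c + α + β + γ, (x : ℤ) + y + z - e)] ++ L)
    ?_ ?_ ?_ ?_
  · rw [List.map_append]; exact hnd
  · intro u hu
    rw [List.mem_append] at hu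
    rcases hu with hu | hu
    · simp only [List.mem_cons, List.not_mem_nil, or_false] at hu
      rcases hu with rfl | rfl | rfl | rfl | rfl | rfl | rfl | rfl <;> simp only <;> omega
    · exact hlt u hu
  · rw [List.map_append, List.sum_append, hs]
    simp only [List.map_cons, List.map_nil, List.sum_cons, List.sum_nil]
    ring
  · rw [List.map_append, List.sum_append, List.map_append, List.sum_append]
    simp only [List.map_cons, List.map_nil, List.sum_cons, List.sum_nil]
    push_cast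
    linear_combination hn + 2 * (p : ℤ) * h'

/-- two positions at distance `d` and a cube avoiding them -/
theorem exists_pair {p d : ℕ} (hd : 1 ≤ d) (hdp : d < p) (hp : 13 ≤ p ∨ (p = 11 ∧ d ≠ 4)) :
    ∃ i c α β γ : ℕ, ([c, c + α, c + β, c + γ, c + α + β, c + α + γ, c + β + γ, c + α + β + γ] ++ [i, i + d]).Nodup ∧
      c + α + β + γ < p ∧ i + d < p := by
  by_cases h9 : 9 ≤ d
  · refine ⟨0, 1, 1, 2, 4, ?_, by omega, by omega⟩
    simp
    omega
  by_cases h8 : d + 9 ≤ p
  · refine ⟨0, d + 1, 1, 2, 4, ?_, by omega, by omega⟩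
    simp
    omega
  by_cases h5 : 5 ≤ d ∧ d + 5 ≤ p
  · refine ⟨0, 1, 1, 2, d, ?_, by omega, by omega⟩
    simp
    omega
  have hp11 : p = 11 := by omega
  subst hp11
  have h3 : d = 3 ∨ d = 7 ∨ d = 8 := by omega
  rcases h3 with rfl | rfl | rfl
  · exact ⟨0, 1, 1, 3, 5, by decide, by omega, by omega⟩
  · exact ⟨1, 0, 2, 3, 4, by decide, by omega, by omega⟩
  · exact ⟨0, 1, 1, 3, 5, by decide, by omega, by omega⟩

theorem hasCore_pair {p d k n : ℕ} {σ : ℤ} (hσ : σ ^ 2 = 1) (hd : 1 ≤ d) (hdp : d < p)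
    (hp : 13 ≤ p ∨ (p = 11 ∧ d ≠ 4)) (hn : (n : ℤ) = 2 * p * k + p - σ * d) : HasCore p n := by
  obtain ⟨i, c, α, β, γ, h1, h2, h3⟩ := exists_pair hd hdp hp
  refine cube c α β γ [(i, σ), (i + d, -σ)] k h1 h2 ?_ ?_ ?_
  · intro x hx
    simp only [List.mem_cons, List.not_mem_nil, or_false] at hx
    rcases hx with rfl | rfl <;> simp only <;> omega
  · simp
  · simp only [List.map_cons, List.map_nil, List.sum_cons, List.sum_nil]
    push_cast
    linear_combination (-2 : ℤ) * hn + 2 * (p : ℤ) * hσ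

/-- **`p`-cores for `p ≥ 11`** -/
theorem hasCore_big {p n : ℕ} (hp : 13 ≤ p ∨ p = 11) (hn : 2 * p ≤ n) : HasCore p n := by
  have hp0 : 11 ≤ p := by omega
  obtain ⟨k, r, hr, hkr⟩ : ∃ k r, r < 2 * p ∧ n = 2 * p * k + r :=
    ⟨n / (2 * p), n % (2 * p), Nat.mod_lt _ (by omega), (Nat.div_add_mod n (2 * p)).symm⟩
  have hk : 1 ≤ k := by
    by_contra hc
    have : k = 0 := by omega
    rw [this] at hkr
    omega
  have hnZ : (n : ℤ) = 2 * p * k + r := by rw [hkr]; push_cast; ring
  obtain ⟨k', hk'⟩ := Nat.exists_eq_add_of_le' hk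
  rcases Nat.eq_zero_or_pos r with hr0 | hr0
  · refine cube 0 1 2 4 [] k (by decide) (by omega) (by simp) (by simp) ?_
    rw [hnZ, hr0]
    simp
    ring
  rcases lt_trichotomy r p with hlt | heq | hgt
  · -- `r = p - d`
    by_cases h11 : p = 11 ∧ p - r = 4
    · obtain ⟨hp11, h4⟩ := h11
      have hr7 : r = 7 := by omega
      subst hr7
      subst hp11
      refine cube 1 1 2 6 [(0, 1), (5, -2), (6, 1)] k' (by decide) (by omega) (by simp) (by simp) ?_
      rw [hnZ, hk']
      simp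
      ring
    · refine hasCore_pair (d := p - r) (k := k) (σ := 1) (by norm_num) (by omega) (by omega) (by omega) ?_
      rw [hnZ]
      push_cast [hlt.le]
      ring
  · refine cube 3 1 2 4 [(0, 1), (1, -2), (2, 1)] k' (by decide) (by omega) ?_ (by simp) ?_
    · intro x hx
      simp only [List.mem_cons, List.not_mem_nil, or_false] at hx
      rcases hx with rfl | rfl | rfl <;> simp only <;> omega
    · rw [hnZ, hk', heq]
      simp
      ring
  · by_cases h11 : p = 11 ∧ r - p = 4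
    · obtain ⟨hp11, h4⟩ := h11
      have hr7 : r = 15 := by omega
      subst hr7
      subst hp11
      refine cube 1 1 2 6 [(0, -1), (5, 2), (6, -1)] k' (by decide) (by omega) (by simp) (by simp) ?_
      rw [hnZ, hk']
      simp
      ring
    · refine hasCore_pair (d := r - p) (k := k) (σ := -1) (by norm_num) (by omega) (by omega) (by omega) ?_
      rw [hnZ]
      push_cast [hgt.le]
      ring

end Cfsg.Agent.R2.DZ.T1
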